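import Mathlib.AlgebraicGeometry.Morphisms.WeaklyEtale
import Mathlib.AlgebraicGeometry.Morphisms.FlatMono
import Mathlib.AlgebraicGeometry.Morphisms.UniversallyOpen
import Mathlib.AlgebraicGeometry.Morphisms.UniversallyInjective
import Mathlib.AlgebraicGeometry.Morphisms.Integral
import Mathlib.AlgebraicGeometry.Morphisms.Immersion
import Mathlib.RingTheory.Localization.Basic
import Groth.Agent.Lib.WEtSch4

/-! Sections of weakly étale morphisms descend along universal homeomorphisms. -/

universe u

open CategoryTheory Limits AlgebraicGeometry TopologicalSpace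

namespace Groth.Agent.ProEtTop19

set_option backward.isDefEq.respectTransparency false
set_option backward.isDefEq.respectTransparency.types false
set_option linter.style.haveILetI false
set_option maxHeartbeats 800000

theorem isIso_of_flat_immersion {X Y : Scheme.{u}} (f : X ⟶ Y) [Flat f] [IsImmersion f] [Surjective f] :
    IsIso f := by
  have hh : IsHomeomorph f.base :=
    isHomeomorph_iff_isEmbedding_surjective.2 ⟨f.isEmbedding, f.surjective⟩
  haveI : QuasiCompact f := ⟨fun U _ hc ↦ hh.homeomorph.isCompact_preimage.mpr hc⟩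
  exact Flat.isIso_of_surjective_of_mono f

theorem isHomeomorph_uh {X Y : Scheme.{u}} (f : X ⟶ Y) [IsIntegralHom f] [UniversallyInjective f]
    [Surjective f] : IsHomeomorph f.base :=
  isHomeomorph_iff_continuous_isClosedMap_bijective.2
    ⟨f.continuous, f.isClosedMap, ⟨f.injective, f.surjective⟩⟩

theorem range_section {P U U' : Scheme.{u}} (p : P ⟶ U) [WeaklyEtale p] [IsSeparated p] (r : U' ⟶ U)
    [IsIntegralHom r] [UniversallyInjective r] [Surjective r] (σ : U' ⟶ P) (h : σ ≫ p = r) :
    IsClosed (Set.range σ) ∧ StableUnderGeneralization (Set.range σ) := by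
  haveI : IsIntegralHom (σ ≫ p) := h ▸ ‹IsIntegralHom r›
  haveI : IsIntegralHom σ := IsIntegralHom.of_comp σ p
  refine ⟨σ.isClosedMap.isClosed_range, ?_⟩
  let s : U' ⟶ pullback p r := pullback.lift σ (𝟙 U') (by rw [h, Category.id_comp])
  haveI : WeaklyEtale (pullback.snd p r) := MorphismProperty.pullback_snd _ _ ‹_›
  haveI : WeaklyEtale (s ≫ pullback.snd p r) := by
    rw [show s ≫ pullback.snd p r = 𝟙 U' from pullback.lift_snd _ _ _]; infer_instance
  haveI : WeaklyEtale s := WeaklyEtale.of_comp s (pullback.snd p r)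
  haveI : IsIntegralHom (pullback.fst p r) := MorphismProperty.pullback_fst _ _ ‹_›
  haveI : UniversallyInjective (pullback.fst p r) := MorphismProperty.pullback_fst _ _ ‹_›
  haveI : Surjective (pullback.fst p r) := MorphismProperty.pullback_fst _ _ ‹_›
  have hfst := isHomeomorph_uh (pullback.fst p r)
  rintro x y hxy ⟨u, rfl⟩
  obtain ⟨y', rfl⟩ := (pullback.fst p r).surjective y
  have hσ : σ u = pullback.fst p r (s u) := by
    rw [← Scheme.Hom.comp_apply, show s ≫ pullback.fst p r = σ from pullback.lift_fst _ _ _]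
  rw [hσ] at hxy
  have hy : y' ⤳ s u := hfst.isInducing.specializes_iff.1 hxy
  obtain ⟨u', hu', hu''⟩ := Flat.generalizingMap (f := s) hy
  exact ⟨u', by
    rw [← hu'', ← Scheme.Hom.comp_apply, show s ≫ pullback.fst p r = σ from pullback.lift_fst _ _ _]⟩

/-- Localisation at a closed subset stable under generalisation. -/
theorem exists_localization (P : Scheme.{u}) [IsAffine P] (Γs : Set P) (hc : IsClosed Γs)
    (hg : StableUnderGeneralization Γs) {U' : Scheme.{u}} [IsAffine U'] (σ : U' ⟶ P)
    (hσ : Set.range σ = Γs) :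
    ∃ (D : Scheme.{u}) (q : D ⟶ P) (τ : U' ⟶ D),
      IsAffine D ∧ WeaklyEtale q ∧ Mono q ∧ τ ≫ q = σ ∧ Surjective τ := by
  let e := P.isoSpec
  let C : CommRingCat.{u} := Γ(P, ⊤)
  let σ' : Spec Γ(U', ⊤) ⟶ Spec C := Spec.map σ.appTop
  have hσ' : U'.isoSpec.hom ≫ σ' = σ ≫ e.hom := by rw [← Scheme.isoSpec_hom_naturality σ]
  let Γ' : Set (PrimeSpectrum C) := Set.range σ'
  have hΓ' : Γ' = e.hom '' Γs := by
    rw [← hσ]
    ext x
    constructor
    · rintro ⟨z, rfl⟩
      refine ⟨σ (U'.isoSpec.inv z), ⟨_, rfl⟩, ?_⟩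
      rw [← Scheme.Hom.comp_apply, ← hσ', ← Scheme.Hom.comp_apply, Iso.inv_hom_id_assoc]
    · rintro ⟨_, ⟨z, rfl⟩, rfl⟩
      exact ⟨U'.isoSpec.hom z, by rw [← Scheme.Hom.comp_apply, hσ']; rfl⟩
  have heh : IsHomeomorph e.hom.base := (Scheme.homeoOfIso e).isHomeomorph
  have hcl : IsClosed Γ' := by rw [hΓ']; exact heh.isClosedMap _ hc
  have hgen : StableUnderGeneralization Γ' := by
    rw [hΓ']
    rintro x y hxy ⟨a, ha, rfl⟩
    obtain ⟨b, rfl⟩ := heh.surjective y
    exact ⟨b, hg (heh.isInducing.specializes_iff.1 hxy) ha, rfl⟩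
  let I := PrimeSpectrum.vanishingIdeal Γ'
  have hI : PrimeSpectrum.zeroLocus (I : Set C) = Γ' := by
    rw [PrimeSpectrum.zeroLocus_vanishingIdeal_eq_closure, hcl.closure_eq]
  let M : Submonoid C :=
    { carrier := {c | c - 1 ∈ I}
      one_mem' := by simp
      mul_mem' := fun {a b} ha hb => by
        show a * b - 1 ∈ I
        rw [show a * b - 1 = a * (b - 1) + (a - 1) by ring]
        exact I.add_mem (I.mul_mem_left _ hb) ha }
  have hunit : ∀ c : M, IsUnit (σ.appTop.hom c.1) := by
    rintro ⟨c, hc⟩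
    by_contra hu
    obtain ⟨m, hm, hcm⟩ := exists_max_ideal_of_mem_nonunits hu
    let x : PrimeSpectrum Γ(U', ⊤) := ⟨m, hm.isPrime⟩
    have hx : σ' x ∈ Γ' := ⟨x, rfl⟩
    have h1 : c - 1 ∈ (σ' x).asIdeal := (PrimeSpectrum.mem_vanishingIdeal _ _).1 hc _ hx
    have h2 : c ∈ (σ' x).asIdeal := hcm
    exact (σ' x).isPrime.ne_top ((Ideal.eq_top_iff_one _).2 (by
      have := Ideal.sub_mem _ h2 h1
      rwa [sub_sub_cancel] at this))
  let L := CommRingCat.of (Localization M)
  let l : C ⟶ L := CommRingCat.ofHom (algebraMap C (Localization M))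
  let t : L ⟶ Γ(U', ⊤) := CommRingCat.ofHom (IsLocalization.lift (S := Localization M) hunit)
  have hlt : l ≫ t = σ.appTop := CommRingCat.hom_ext (IsLocalization.lift_comp _)
  haveI : Flat (Spec.map l) := (HasRingHomProperty.Spec_iff (P := @Flat)).2
    (RingHom.flat_algebraMap_iff.2 (IsLocalization.flat (Localization M) M))
  haveI : Epi l := ⟨fun a b hab => CommRingCat.hom_ext (IsLocalization.ringHom_ext M
    (congrArg CommRingCat.Hom.hom hab))⟩
  haveI : IsPreimmersion (Spec.map l) := IsPreimmersion.of_isLocalization M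
  haveI : Mono (Spec.map l) := inferInstance
  haveI : WeaklyEtale (Spec.map l) :=
    { flat_diagonal := by
        haveI := (pullback.isIso_diagonal_iff (Spec.map l)).mpr inferInstance
        infer_instance }
  refine ⟨Spec L, Spec.map l ≫ e.inv, U'.isoSpec.hom ≫ Spec.map t, inferInstance, inferInstance,
    inferInstance, ?_, ?_⟩
  · rw [Category.assoc, ← Category.assoc (Spec.map t), ← Spec.map_comp, hlt, ← Category.assoc, hσ',
      Category.assoc, Iso.hom_inv_id, Category.comp_id]
  · refine @MorphismProperty.comp_mem _ _ @Surjective _ _ _ _ _ _ inferInstance ⟨fun p => ?_⟩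
    have hp : Spec.map l p ∈ Γ' := by
      obtain ⟨m, hm, hle⟩ := Ideal.exists_le_maximal ((Spec.map l p).asIdeal ⊔ I) (fun htop => by
        obtain ⟨a, ha, b, hb, hab⟩ := Submodule.mem_sup.1 ((Ideal.eq_top_iff_one _).1 htop)
        have haM : a ∈ M := by
          show a - 1 ∈ I
          rw [← hab, sub_add_cancel_left]
          exact I.neg_mem hb
        exact p.isPrime.ne_top (Ideal.eq_top_of_isUnit_mem _ ha
          (IsLocalization.map_units (Localization M) ⟨a, haM⟩)))
      refine hgen (x := ⟨m, hm.isPrime⟩) ?_ ?_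
      · exact (PrimeSpectrum.le_iff_specializes _ _).1 (le_sup_left.trans hle)
      · rw [← hI, PrimeSpectrum.mem_zeroLocus]
        exact fun c hc => hle (Ideal.mem_sup_right hc)
    obtain ⟨z, hz⟩ := hp
    refine ⟨z, (Spec.map l).isEmbedding.injective ?_⟩
    rw [← hz, ← Scheme.Hom.comp_apply, ← Spec.map_comp, hlt]

/-- A section of a weakly étale morphism over a universal homeomorphism descends. -/
theorem exists_section {P U U' : Scheme.{u}} (p : P ⟶ U) [WeaklyEtale p] (r : U' ⟶ U)
    [IsIntegralHom r] [UniversallyInjective r] [Surjective r] [IsAffine P] [IsAffine U]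
    (σ : U' ⟶ P) (h : σ ≫ p = r) : ∃ l : U ⟶ P, l ≫ p = 𝟙 U ∧ r ≫ l = σ := by
  haveI : IsAffine U' := isAffine_of_isAffineHom r
  obtain ⟨hc, hg⟩ := range_section p r σ h
  obtain ⟨D, q, τ, _, _, _, hτ, _⟩ := exists_localization P _ hc hg σ rfl
  let d := q ≫ p
  have hd : τ ≫ d = r := by rw [← Category.assoc, hτ, h]
  haveI : WeaklyEtale d := inferInstanceAs (WeaklyEtale (q ≫ p))
  haveI : Surjective d := ⟨fun x => by
    obtain ⟨z, hz⟩ := r.surjective x
    exact ⟨τ z, by rw [← Scheme.Hom.comp_apply, hd, hz]⟩⟩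
  haveI hr : Surjective (pullback.diagonal r) := (UniversallyInjective.iff_diagonal r).1 ‹_›
  haveI hds : Surjective (pullback.diagonal d) := by
    let m : pullback r r ⟶ pullback d d :=
      pullback.map r r d d τ τ (𝟙 U) (by rw [Category.comp_id, hd]) (by rw [Category.comp_id, hd])
    haveI : Surjective m := by
      haveI : Surjective (pullback.map (τ ≫ d) (τ ≫ d) d d τ τ (𝟙 U) (Category.comp_id _)
          (Category.comp_id _)) := MorphismProperty.pullback_map
        (P := @Surjective) ‹Surjective τ› ‹Surjective τ› rfl rfl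
      subst hd
      exact this
    have e : pullback.diagonal r ≫ m = τ ≫ pullback.diagonal d := by
      apply pullback.hom_ext <;> simp [m]
    haveI : Surjective (τ ≫ pullback.diagonal d) := e ▸ inferInstance
    exact Surjective.of_comp τ (pullback.diagonal d)
  haveI : Mono d := by
    rw [← pullback.isIso_diagonal_iff]
    exact isIso_of_flat_immersion _
  haveI : IsAffineHom d := inferInstance
  haveI : IsIso d := Flat.isIso_of_surjective_of_mono d
  refine ⟨inv d ≫ q, by rw [Category.assoc]; exact IsIso.inv_hom_id d, ?_⟩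
  rw [← Category.assoc, show r ≫ inv d = τ from (IsIso.comp_inv_eq d).2 hd.symm, hτ]

/-- Maps into a weakly étale scheme agree if they agree on a surjective base change. -/
theorem eq_of_surjective {U V X U' : Scheme.{u}} (v : V ⟶ X) [WeaklyEtale v] (f₁ f₂ : U ⟶ V)
    (h : f₁ ≫ v = f₂ ≫ v) (r : U' ⟶ U) [Surjective r] (hr : r ≫ f₁ = r ≫ f₂) : f₁ = f₂ := by
  let g : U ⟶ pullback v v := pullback.lift f₁ f₂ h
  let e : pullback (pullback.diagonal v) g ⟶ U := pullback.snd _ _
  haveI : Flat e := MorphismProperty.pullback_snd _ _ inferInstance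
  haveI : IsImmersion e := MorphismProperty.pullback_snd _ _ inferInstance
  have hk : (r ≫ f₁) ≫ pullback.diagonal v = r ≫ g := by
    apply pullback.hom_ext
    · simp [g]
    · simp [g, hr]
  let k : U' ⟶ pullback (pullback.diagonal v) g := pullback.lift (r ≫ f₁) r hk
  haveI : Surjective (k ≫ e) := by
    rw [show k ≫ e = r from pullback.lift_snd _ _ _]; infer_instance
  haveI : Surjective e := Surjective.of_comp k e
  haveI := isIso_of_flat_immersion e
  have hc := pullback.condition (f := pullback.diagonal v) (g := g)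
  have h1 : e ≫ f₁ = pullback.fst (pullback.diagonal v) g := by
    have := congrArg (· ≫ pullback.fst v v) hc
    simpa [g, e] using this.symm
  have h2 : e ≫ f₂ = pullback.fst (pullback.diagonal v) g := by
    have := congrArg (· ≫ pullback.snd v v) hc
    simpa [g, e] using this.symm
  exact (cancel_epi e).1 (h1.trans h2.symm)

end Groth.Agent.ProEtTop19
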