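import Groth.Agent.Lib.ProEtTop19.Section
import Groth.Agent.Lib.ProEtEps19.Push
import Groth.Agent.Lib.TopInv15.Bc
import Groth.Agent.Lib.ChevAff4.Main
import Groth.Agent.Lib.ProEtWC.Cont
import Mathlib.CategoryTheory.Sites.DenseSubsite.SheafEquiv

/-! Topological invariance of the small pro-étale site. -/

universe u

open CategoryTheory Limits AlgebraicGeometry Opposite TopologicalSpace

namespace Groth.Agent.ProEtTop19

set_option backward.isDefEq.respectTransparency false
set_option backward.isDefEq.respectTransparency.types false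
set_option linter.style.haveILetI false
set_option linter.unusedSectionVars false
set_option maxHeartbeats 1200000

open Groth.Agent.ProEtWC
open Groth.Agent.ProEtEps19 (left_eq toSch Bas IndEtMap indEt exists_presentation exists_bas_cover
  isLimitBcP indEt_appTop_of_spec)

variable {Z X : Scheme.{u}} (i : Z ⟶ X) [IsIntegralHom i] [UniversallyInjective i] [Surjective i]

/-- The projection of a base change. -/
noncomputable abbrev proj (U : X.ProEt) : ((ProEtS.bcP i).obj U).left ⟶ U.left := pullback.fst U.hom i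

instance (U : X.ProEt) : IsIntegralHom (proj i U) := MorphismProperty.pullback_fst _ _ ‹_›

instance (U : X.ProEt) : UniversallyInjective (proj i U) := MorphismProperty.pullback_fst _ _ ‹_›

instance (U : X.ProEt) : Surjective (proj i U) := MorphismProperty.pullback_fst _ _ ‹_›

theorem map_proj {U V : X.ProEt} (g : V ⟶ U) :
    ((ProEtS.bcP i).map g).left ≫ proj i U = proj i V ≫ g.left :=
  (isPullback_bcP_map i g).w

theorem bc_hom_ext {A : Z.ProEt} {V : X.ProEt} {a b : A ⟶ (ProEtS.bcP i).obj V}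
    (h : a.left ≫ proj i V = b.left ≫ proj i V) : a = b :=
  MorphismProperty.Over.Hom.ext (pullback.hom_ext h
    ((MorphismProperty.Over.w a).trans (MorphismProperty.Over.w b).symm))

theorem faithful : (ProEtS.bcP i).Faithful := ⟨fun {U V} f₁ f₂ h => by
  haveI : WeaklyEtale V.hom := V.prop
  refine MorphismProperty.Over.Hom.ext (eq_of_surjective V.hom f₁.left f₂.left
    ((MorphismProperty.Over.w f₁).trans (MorphismProperty.Over.w f₂).symm) (proj i U) ?_)
  rw [← map_proj, ← map_proj, h]⟩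

theorem exists_local_lift {U V : X.ProEt} (f : (ProEtS.bcP i).obj U ⟶ (ProEtS.bcP i).obj V) (x : U.left) :
    ∃ O : U.left.Opens, x ∈ O ∧ ((ProEtS.bcP i).imageSieve f).arrows (overHom U O.ι) := by
  haveI : WeaklyEtale V.hom := V.prop
  let r := proj i U
  have hfw : f.left ≫ pullback.snd V.hom i = pullback.snd U.hom i := MorphismProperty.Over.w f
  let σ0 : ((ProEtS.bcP i).obj U).left ⟶ pullback U.hom V.hom := pullback.lift r (f.left ≫ proj i V) (by
    refine pullback.condition.trans ?_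
    rw [← hfw, Category.assoc, Category.assoc]
    exact congrArg (f.left ≫ ·) pullback.condition.symm)
  let p : pullback U.hom V.hom ⟶ U.left := pullback.fst _ _
  haveI : WeaklyEtale p := MorphismProperty.pullback_fst _ _ ‹_›
  have hσ0 : σ0 ≫ p = r := pullback.lift_fst _ _ _
  obtain ⟨z, rfl⟩ := r.surjective x
  obtain ⟨U0, hU0, hxU0, -⟩ := exists_isAffineOpen_mem_and_subset (X := U.left) (x := r z) (U := ⊤) trivial
  obtain ⟨O, hO, hxO, hOU0⟩ := exists_isAffineOpen_mem_and_subset (X := pullback U.hom V.hom) (x := σ0 z)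
    (U := p ⁻¹ᵁ U0) (by
      show p (σ0 z) ∈ U0
      rw [← Scheme.Hom.comp_apply, hσ0]; exact hxU0)
  let W : U.left.Opens := ⟨r '' (σ0 ⁻¹ᵁ O : Set _), (isHomeomorph_uh r).isOpenMap _ (σ0 ⁻¹ᵁ O).2⟩
  obtain ⟨U1, hU1, hxU1, hU1le⟩ := exists_isAffineOpen_mem_and_subset (X := U.left) (x := r z)
    (U := W ⊓ U0) ⟨⟨z, hxO, rfl⟩, hxU0⟩
  haveI : IsAffine O.toScheme := hO
  haveI : IsAffine U0.toScheme := hU0
  haveI : IsAffine U1.toScheme := hU1
  have hU10 : U1 ≤ U0 := fun a ha => (hU1le ha).2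
  let pO : O.toScheme ⟶ U0.toScheme := p.resLE U0 O hOU0
  let P1 : Scheme.{u} := pullback pO (U.left.homOfLE hU10)
  let p1 : P1 ⟶ U1.toScheme := pullback.snd _ _
  haveI : WeaklyEtale pO := inferInstance
  haveI : WeaklyEtale p1 := MorphismProperty.pullback_snd _ _ ‹_›
  let U1o := overObj U U1.ι
  let r1 : ((ProEtS.bcP i).obj U1o).left ⟶ U1.toScheme := proj i U1o
  let m := ((ProEtS.bcP i).map (overHom U U1.ι)).left
  have hm : m ≫ r = r1 ≫ U1.ι := map_proj i _
  haveI : IsAffine U1o.left := hU1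
  haveI : IsIntegralHom r1 := inferInstanceAs (IsIntegralHom (proj i U1o))
  haveI : UniversallyInjective r1 := inferInstanceAs (UniversallyInjective (proj i U1o))
  haveI : Surjective r1 := inferInstanceAs (Surjective (proj i U1o))
  let a : ((ProEtS.bcP i).obj U1o).left ⟶ O.toScheme := IsOpenImmersion.lift O.ι (m ≫ σ0) (by
    rintro _ ⟨w, rfl⟩
    rw [Scheme.Opens.range_ι]
    have hw : r (m w) ∈ U1 := by
      rw [← Scheme.Hom.comp_apply, hm]
      exact (r1 w).2
    obtain ⟨w', hw', e⟩ := (hU1le hw).1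
    rw [r.injective e] at hw'
    exact hw')
  have ha : a ≫ O.ι = m ≫ σ0 := IsOpenImmersion.lift_fac _ _ _
  have hcond : a ≫ pO = r1 ≫ U.left.homOfLE hU10 := by
    rw [← cancel_mono U0.ι, Category.assoc, Category.assoc, Scheme.Hom.resLE_comp_ι,
      Scheme.homOfLE_ι, ← Category.assoc, ha, Category.assoc, hσ0, hm]
  obtain ⟨l, hl, hl'⟩ := exists_section p1 r1 (pullback.lift a r1 hcond) (pullback.lift_snd _ _ _)
  refine ⟨U1, hxU1, ?_⟩
  have hlp : l ≫ pullback.fst pO (U.left.homOfLE hU10) ≫ O.ι ≫ p = U1.ι := by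
    have h1 : pullback.fst pO (U.left.homOfLE hU10) ≫ O.ι ≫ p = p1 ≫ U1.ι := by
      rw [← Scheme.Hom.resLE_comp_ι p hOU0, ← Category.assoc, pullback.condition, Category.assoc,
        Scheme.homOfLE_ι]
    rw [h1, ← Category.assoc, hl, Category.id_comp]
  let l0 : U1.toScheme ⟶ V.left :=
    l ≫ pullback.fst pO (U.left.homOfLE hU10) ≫ O.ι ≫ pullback.snd U.hom V.hom
  let lV : U1o ⟶ V := MorphismProperty.Over.homMk l0 (by
    show l0 ≫ V.hom = U1.ι ≫ U.hom
    simp only [l0, Category.assoc, ← pullback.condition]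
    rw [← hlp]
    simp [p])
  refine ⟨lV, bc_hom_ext i ?_⟩
  rw [map_proj]
  show r1 ≫ l0 = (m ≫ f.left) ≫ proj i V
  rw [show r1 ≫ l0 =
    (r1 ≫ l) ≫ pullback.fst pO (U.left.homOfLE hU10) ≫ O.ι ≫ pullback.snd U.hom V.hom from
      (Category.assoc _ _ _).symm, hl', pullback.lift_fst_assoc, ← Category.assoc, ha, Category.assoc,
    Category.assoc]
  exact congrArg (m ≫ ·) (pullback.lift_snd _ _ _)

theorem isLocallyFull : (ProEtS.bcP i).IsLocallyFull (Scheme.ProEt.topology Z) := ⟨fun {U V} f => by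
  choose O hx hO using exists_local_lift i f
  refine (coverPreserving_bcP i).cover_preserve ?_
  refine GrothendieckTopology.superset_covering _ ?_
    (opens_cover_mem U O (top_unique fun x _ => Opens.mem_iSup.2 ⟨x, hx x⟩))
  rw [Sieve.generate_le_iff, Presieve.ofArrows_le_iff]
  exact hO⟩

theorem mem_of_functorPushforward {U : X.ProEt} [IsAffine U.left] {S : Sieve U}
    (hS : S.functorPushforward (ProEtS.bcP i) ∈ Scheme.ProEt.topology Z ((ProEtS.bcP i).obj U)) :
    S ∈ Scheme.ProEt.topology X U := by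
  haveI : IsAffine ((ProEtS.bcP i).obj U).left := isAffine_of_isAffineHom (proj i U)
  obtain ⟨ι, _, B, b, _, hBa, hBs, hBR⟩ := exists_affine_refinement hS
  choose V g h hg hh using hBR
  haveI := hBa
  have hcov : ∀ k : ι, ∀ y : B k, ∃ O : (V k).left.Opens,
      IsAffineOpen O ∧ proj i (V k) ((h k).left y) ∈ O := fun k y => by
    obtain ⟨O, hO, hy, -⟩ := exists_isAffineOpen_mem_and_subset (X := (V k).left)
      (x := proj i (V k) ((h k).left y)) (U := ⊤) trivial
    exact ⟨O, hO, hy⟩
  choose O hOa hyO using hcov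
  let Q : ∀ k : ι, B k → Set (B k) := fun k y => ((h k).left ≫ proj i (V k)) ⁻¹' (O k y : Set _)
  have hfin : ∀ k, ∃ s : Finset (B k), Set.univ ⊆ ⋃ y ∈ s, Q k y := fun k =>
    isCompact_univ.elim_finite_subcover (Q k)
      (fun y => (O k y).2.preimage ((h k).left ≫ proj i (V k)).continuous)
      (fun y _ => Set.mem_iUnion.2 ⟨y, hyO k y⟩)
  choose s hs using hfin
  let κ : Type u := Σ k, {y : B k // y ∈ s k}
  haveI : Finite κ := inferInstance
  let Bf : κ → X.ProEt := fun q => overObj (V q.1) (O q.1 q.2.1).ι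
  let bf : ∀ q, Bf q ⟶ U := fun q => overHom (V q.1) (O q.1 q.2.1).ι ≫ g q.1
  haveI : ∀ q, IsAffine (Bf q).left := fun q => hOa q.1 q.2.1
  have hsurj : ∀ x : U.left, ∃ q, ∃ y : (Bf q).left, (bf q).left y = x := fun x => by
    obtain ⟨z, rfl⟩ := (proj i U).surjective x
    obtain ⟨k, y, rfl⟩ := hBs z
    obtain ⟨y', hy', hyO'⟩ := Set.mem_iUnion₂.1 (hs k (Set.mem_univ y))
    refine ⟨⟨k, y', hy'⟩, ⟨_, hyO'⟩, ?_⟩
    show (g k).left (proj i (V k) ((h k).left y)) = proj i U (b k y)
    rw [← Scheme.Hom.comp_apply (proj i (V k)), ← map_proj, Scheme.Hom.comp_apply]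
    exact congrArg (proj i U) (congr($(left_eq (hh k)) y)).symm
  refine GrothendieckTopology.superset_covering _ ?_ (cover_mem Bf bf ?_ hsurj)
  · rw [Sieve.generate_le_iff, Presieve.ofArrows_le_iff]
    exact fun q => S.downward_closed (hg q.1) _
  · let 𝒰 : U.left.Cover (Scheme.precoverage ⊤) :=
      Scheme.Cover.mkOfCovers (P := ⊤) κ (fun q => (Bf q).left) (fun q => (bf q).left) hsurj
        (fun _ => trivial)
    haveI : ∀ q, QuasiCompact (𝒰.f q) := fun q => inferInstanceAs (QuasiCompact (bf q).left)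
    haveI : Finite 𝒰.I₀ := ‹Finite κ›
    exact inferInstanceAs (QuasiCompactCover 𝒰.toPreZeroHypercover)

theorem functorPushforward_mem_iff {U : X.ProEt} {S : Sieve U} :
    S.functorPushforward (ProEtS.bcP i) ∈ Scheme.ProEt.topology Z ((ProEtS.bcP i).obj U) ↔
      S ∈ Scheme.ProEt.topology X U := by
  refine ⟨fun hS => ?_, fun hS => (coverPreserving_bcP i).cover_preserve hS⟩
  refine GrothendieckTopology.transitive _
    (opens_cover_mem U (fun O : U.left.affineOpens ↦ O.1) (iSup_affineOpens_eq_top _)) _ ?_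
  rintro Y f ⟨Y', a, b, ⟨O⟩, rfl⟩
  rw [Sieve.pullback_comp]
  refine GrothendieckTopology.pullback_stable _ a ?_
  haveI : IsAffine (overObj U O.1.ι).left := O.2
  refine mem_of_functorPushforward i (GrothendieckTopology.superset_covering _ ?_
    ((Scheme.ProEt.topology Z).pullback_stable ((ProEtS.bcP i).map (overHom U O.1.ι)) hS))
  intro A c hc
  obtain ⟨V, g, k, hg, hk⟩ := hc
  let V' := ProEtEps19.fib g (overHom U O.1.ι)
  have hsq : IsPullback ((ProEtS.bcP i).map (ProEtEps19.fib₁ g (overHom U O.1.ι)))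
      ((ProEtS.bcP i).map (ProEtEps19.fib₂ g (overHom U O.1.ι)))
      ((ProEtS.bcP i).map g) ((ProEtS.bcP i).map (overHom U O.1.ι)) := by
    refine (ProEtS.bcP i).map_isPullback ?_
    exact ⟨⟨ProEtEps19.fib_condition _ _⟩, ⟨PullbackCone.IsLimit.mk _
      (fun s => ProEtEps19.fibLift s.fst s.snd s.condition)
      (fun s => ProEtEps19.fibLift₁ _ _ _) (fun s => ProEtEps19.fibLift₂ _ _ _)
      (fun s m h₁ h₂ => MorphismProperty.Over.Hom.ext (pullback.hom_ext
        ((left_eq h₁).trans (pullback.lift_fst _ _ _).symm)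
        ((left_eq h₂).trans (pullback.lift_snd _ _ _).symm)))⟩⟩
  refine ⟨V', ProEtEps19.fib₂ g (overHom U O.1.ι), hsq.lift k c hk.symm, ?_, (hsq.lift_snd _ _ _).symm⟩
  show S.arrows (ProEtEps19.fib₂ g (overHom U O.1.ι) ≫ overHom U O.1.ι)
  rw [← ProEtEps19.fib_condition]
  exact S.downward_closed hg _

theorem exists_iso_of_bas {W : Z.ProEt} (hW : Bas W) :
    ∃ V : X.ProEt, Nonempty ((ProEtS.bcP i).obj V ≅ W) := by
  obtain ⟨I, _, _, D, π, hD, ⟨hc⟩⟩ := exists_presentation hW
  haveI := hW.isAffine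
  haveI := fun j => (hD j).1
  haveI := fun j => (hD j).2
  haveI : (EtCoh.bc i).EssSurj := TopInv15.essSurj_bc i
  haveI : (EtCoh.bc i).Full := (TopInv15.fullyFaithfulBc i).full
  haveI : (EtCoh.bc i).Faithful := (TopInv15.fullyFaithfulBc i).faithful
  haveI : (EtCoh.bc i).IsEquivalence := { }
  let EZ : I ⥤ Z.Etale :=
    { obj := fun j => Scheme.Etale.mk (D.obj j).hom
      map := fun {a b} m => MorphismProperty.Over.homMk (D.map m).left (MorphismProperty.Over.w (D.map m))
      map_id := fun a => MorphismProperty.Over.Hom.ext (left_eq (D.map_id a))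
      map_comp := fun m n => MorphismProperty.Over.Hom.ext (left_eq (D.map_comp m n)) }
  let eqv := (EtCoh.bc i).asEquivalence
  let E : I ⥤ X.Etale := EZ ⋙ eqv.inverse
  let η : E ⋙ EtCoh.bc i ≅ EZ :=
    Functor.associator _ _ _ ≪≫ Functor.isoWhiskerLeft EZ eqv.counitIso ≪≫ EZ.rightUnitor
  haveI hEa : ∀ j, IsAffine (E.obj j).left := fun j => by
    let r := pullback.fst (E.obj j).hom i
    haveI : IsIntegralHom r := MorphismProperty.pullback_fst _ _ ‹_›
    haveI : Surjective r := MorphismProperty.pullback_fst _ _ ‹_›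
    haveI : IsIso (η.hom.app j).left :=
      ⟨(η.inv.app j).left, congrArg (fun e => CommaMorphism.left (MorphismProperty.Comma.Hom.hom e))
        (η.hom_inv_id_app j), congrArg (fun e => CommaMorphism.left (MorphismProperty.Comma.Hom.hom e))
        (η.inv_hom_id_app j)⟩
    haveI : IsAffine ((EtCoh.bc i).obj (E.obj j)).left :=
      IsAffine.of_isIso (Y := (D.obj j).left) (η.hom.app j).left
    haveI : IsAffine (pullback (E.obj j).hom i) := ‹IsAffine ((EtCoh.bc i).obj (E.obj j)).left›
    exact ChevAff4.isAffine_of_surjective r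
  obtain ⟨j0⟩ := IsCofiltered.nonempty (C := I)
  let DX : Over j0 ⥤ X.ProEt := Over.forget j0 ⋙ E ⋙ ProEtS.eps X
  let a0 : Over j0 := Over.mk (𝟙 j0)
  let tt : ∀ a : Over j0, a ⟶ a0 := fun a => Over.homMk a.hom (Category.comp_id _)
  haveI hDXa : ∀ a, IsAffine (DX.obj a).left := fun a => hEa a.left
  let R : (Over j0)ᵒᵖ ⥤ CommRingCat.{u} := (DX ⋙ toSch X).op ⋙ Scheme.Γ
  let Y0 : Scheme.{u} := (DX.obj a0).left
  let s : (Functor.const (Over j0)ᵒᵖ).obj Γ(Y0, ⊤) ⟶ R :=
    { app := fun a => (DX.map (tt a.unop)).left.appTop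
      naturality := fun a b m => by
        show 𝟙 _ ≫ (DX.map (tt b.unop)).left.appTop =
          (DX.map (tt a.unop)).left.appTop ≫ (DX.map m.unop).left.appTop
        rw [Category.id_comp, ← Scheme.Hom.comp_appTop,
          show tt b.unop = m.unop ≫ tt a.unop from Over.OverMorphism.ext (Over.w m.unop).symm,
          DX.map_comp]
        rfl }
  let col := colimit.cocone R
  let s0 : Γ(Y0, ⊤) ⟶ col.pt := s.app (op a0) ≫ col.ι.app (op a0)
  have hs0 : ∀ a, s.app a ≫ col.ι.app a = s0 := fun a => by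
    let m : op a0 ⟶ a := (tt a.unop).op
    have h1 := s.naturality m
    simp only [Functor.const_obj_obj, Functor.const_obj_map, Category.id_comp] at h1
    rw [h1, Category.assoc, col.w]
  have hind : indEt s0 := by
    refine ⟨(Over j0)ᵒᵖ, inferInstance, inferInstance, R, s, col.ι, colimit.isColimit R, fun a => ⟨?_, hs0 a⟩⟩
    haveI : Etale (DX.obj a.unop).hom := (E.obj a.unop.left).prop
    haveI : Etale (DX.obj a0).hom := (E.obj a0.left).prop
    haveI : Etale ((DX.map (tt a.unop)).left ≫ (DX.obj a0).hom) := by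
      rw [MorphismProperty.Over.w]; infer_instance
    haveI : Etale (DX.map (tt a.unop)).left := Etale.of_comp _ (DX.obj a0).hom
    exact (HasRingHomProperty.iff_of_isAffine (P := @Etale) (f := (DX.map (tt a.unop)).left)).1 inferInstance
  let w : Spec col.pt ⟶ Y0 := Spec.map s0 ≫ Y0.isoSpec.inv
  haveI : WeaklyEtale (Spec.map s0) := by
    letI := s0.hom.toAlgebra
    exact WEtSch4.weaklyEtale_SpecMap_iff.2
      (WEtaleH7.weaklyEtale_of_isIndEtale ((WLocal.isIndEtale_iff _ _).2 hind))
  haveI : WeaklyEtale w := inferInstanceAs (WeaklyEtale (Spec.map s0 ≫ Y0.isoSpec.inv))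
  let V : X.ProEt := overObj (DX.obj a0) w
  let πV : ∀ a : Over j0, Spec col.pt ⟶ (DX.obj a).left := fun a =>
    Spec.map (col.ι.app (op a)) ≫ (DX.obj a).left.isoSpec.inv
  have hπ : ∀ a, πV a ≫ (DX.map (tt a)).left = w := fun a => by
    show (_ ≫ _) ≫ _ = Spec.map s0 ≫ _
    rw [← hs0 (op a), Spec.map_comp, Category.assoc, Category.assoc]
    exact congrArg (Spec.map (col.ι.app (op a)) ≫ ·) (Scheme.isoSpec_inv_naturality _).symm
  let cX : Cone DX :=
    { pt := V
      π :=
        { app := fun a => MorphismProperty.Over.homMk (πV a) (by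
            show πV a ≫ (DX.obj a).hom = w ≫ (DX.obj a0).hom
            exact (congrArg (πV a ≫ ·) (MorphismProperty.Over.w (DX.map (tt a))).symm).trans
              ((Category.assoc _ _ _).symm.trans (congrArg (· ≫ _) (hπ a))))
          naturality := fun a b m => MorphismProperty.Over.Hom.ext (by
            show 𝟙 _ ≫ πV b = πV a ≫ (DX.map m).left
            rw [Category.id_comp]
            show _ = (_ ≫ _) ≫ _
            rw [Category.assoc, ← Scheme.isoSpec_inv_naturality, ← Category.assoc, ← Spec.map_comp]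
            exact congrArg (fun q => Spec.map q ≫ _) (col.w m.op).symm) } }
  let φ : R.rightOp ⋙ Scheme.Spec ≅ DX ⋙ toSch X :=
    NatIso.ofComponents (fun a => (DX.obj a).left.isoSpec.symm) fun {a b} m =>
      Scheme.isoSpec_inv_naturality (DX.map m).left
  have hX : IsLimit ((toSch X).mapCone cX) :=
    IsLimit.ofIsoLimit ((IsLimit.postcomposeHomEquiv φ _).symm
      (isLimitOfPreserves Scheme.Spec (isLimitConeRightOpOfCocone R (colimit.isColimit R))))
      (Cone.ext (Iso.refl _) fun a => by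
        show _ = 𝟙 _ ≫ πV a
        rw [Category.id_comp]
        rfl)
  haveI : ∀ a, IsAffine ((DX.obj a)).left := hDXa
  have hG := isLimitBcP i hX
  let ψ : (DX ⋙ ProEtS.bcP i) ⋙ toSch Z ≅ Over.forget j0 ⋙ D ⋙ toSch Z :=
    Functor.isoWhiskerLeft (Over.forget j0) (Functor.isoWhiskerRight η (Scheme.Etale.forget Z ⋙ Over.forget Z))
  have hW' : IsLimit (((toSch Z).mapCone (Cone.mk W π)).whisker (Over.forget j0)) :=
    (Functor.Initial.isLimitWhiskerEquiv (Over.forget j0) _).symm hc
  let e := IsLimit.conePointsIsoOfNatIso hG hW' ψ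
  refine ⟨V, ⟨MorphismProperty.Over.isoMk e ?_⟩⟩
  show e.hom ≫ W.hom = pullback.snd V.hom i
  refine (congrArg (e.hom ≫ ·) (MorphismProperty.Over.w (π.app a0.left)).symm).trans
    ((Category.assoc _ _ _).symm.trans ?_)
  refine (congrArg (· ≫ (D.obj a0.left).hom)
    (IsLimit.conePointsIsoOfNatIso_hom_comp hG hW' ψ a0)).trans ?_
  rw [Category.assoc]
  refine (congrArg (_ ≫ ·) (MorphismProperty.Over.w (η.hom.app a0.left))).trans ?_
  exact MorphismProperty.Over.w ((ProEtS.bcP i).map (cX.π.app a0))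

theorem isCoverDense : (ProEtS.bcP i).IsCoverDense (Scheme.ProEt.topology Z) := ⟨fun W => by
  obtain ⟨ι, V, g, hg, hV⟩ := exists_bas_cover W
  refine GrothendieckTopology.superset_covering _ ?_ hg
  rw [Sieve.generate_le_iff, Presieve.ofArrows_le_iff]
  intro k
  obtain ⟨V', ⟨e⟩⟩ := exists_iso_of_bas i (hV k).1
  exact ⟨⟨V', e.inv, e.hom ≫ g k, by rw [e.inv_hom_id_assoc]⟩⟩⟩

theorem isDenseSubsite :
    (ProEtS.bcP i).IsDenseSubsite (Scheme.ProEt.topology X) (Scheme.ProEt.topology Z) :=
  haveI := faithful i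
  { isCoverDense' := isCoverDense i
    isLocallyFull' := isLocallyFull i
    isLocallyFaithful' := inferInstance
    functorPushforward_mem_iff := functorPushforward_mem_iff i }

theorem isEquivalence_pushP [ProEtS.PCont i] : (ProEtS.pushP i).IsEquivalence := by
  haveI := isDenseSubsite i
  haveI : ∀ W : Z.ProEtᵒᵖ, HasLimitsOfShape (StructuredArrow W (ProEtS.bcP i).op) AddCommGrpCat.{u + 1} :=
    fun W => hasLimitsOfShape_of_equivalence
      (AsSmall.equiv : StructuredArrow W (ProEtS.bcP i).op ≌ AsSmall.{u + 1} (StructuredArrow W (ProEtS.bcP i).op)).symm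
  exact inferInstanceAs ((ProEtS.bcP i).sheafPushforwardContinuous AddCommGrpCat.{u + 1}
    (Scheme.ProEt.topology X) (Scheme.ProEt.topology Z)).IsEquivalence

end Groth.Agent.ProEtTop19
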